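/-
Composition of Koszul-regular immersions with control of the codimension.
-/
import Groth.Agent.LCIPres.Ideal
import Groth.Agent.LCIPres.Embed
import Groth.Agent.LCIMor.Immersion
import Groth.Prelude.Def_RegImm

set_option autoImplicit false
universe u
open AlgebraicGeometry CategoryTheory

namespace Groth.Agent.KoszulCodim

open KoszulExt LCIPres

/-- Restriction of a chart to a basic open. -/
theorem restrict {Y X : Scheme.{u}} (i : Y ⟶ X) {U : X.Opens} (hU : IsAffineOpen U) [IsClosedImmersion (i ∣_ U)]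
    {n : ℕ} (g : Fin n → Γ(X, U)) (hg : IsExact g) (hker : RingHom.ker (i.app U).hom = Ideal.span (Set.range g))
    (t : Γ(X, U)) :
    IsClosedImmersion (i ∣_ X.basicOpen t) ∧ ∃ g' : Fin n → Γ(X, X.basicOpen t), IsExact g' ∧
      RingHom.ker (i.app (X.basicOpen t)).hom = Ideal.span (Set.range g') := by
  refine ⟨LCIMor.isClosedImmersion_restrict_of_le i (X.basicOpen_le t), ?_⟩
  have hp := (LCIMor.app_surjective_of_restrict i hU).2
  letI : Algebra Γ(X, U) Γ(X, X.basicOpen t) := (X.presheaf.map (homOfLE (X.basicOpen_le t)).op).hom.toAlgebra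
  haveI : IsLocalization.Away t Γ(X, X.basicOpen t) := hU.isLocalization_basicOpen t
  haveI : Module.Flat Γ(X, U) Γ(X, X.basicOpen t) := IsLocalization.flat _ (Submonoid.powers t)
  refine ⟨fun j => algebraMap Γ(X, U) Γ(X, X.basicOpen t) (g j), isExact_of_flat hg, ?_⟩
  rw [ker_app_basicOpen i hU hp t, hker, Ideal.map_span, ← Set.range_comp]
  rfl

/-- Composition on one affine open. -/
theorem compose {A B C : Type u} [CommRing A] [CommRing B] [CommRing C] (φ : A →+* B) (hφ : Function.Surjective φ)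
    (ψ : B →+* C) {n m : ℕ} (g : Fin n → A) (hg : IsExact g) (hgk : RingHom.ker φ = Ideal.span (Set.range g))
    (f' : Fin m → B) (hf' : IsExact f') (hfk : RingHom.ker ψ = Ideal.span (Set.range f')) :
    ∃ h : Fin (n + m) → A, IsExact h ∧ RingHom.ker (ψ.comp φ) = Ideal.span (Set.range h) := by
  letI := φ.toAlgebra
  choose f hf using fun j => hφ (f' j)
  have hex : IsExact fun j => algebraMap A B (f j) := by
    have : (fun j => algebraMap A B (f j)) = f' := funext hf
    rw [this]; exact hf'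
  refine ⟨cat f g, isExact_cat hg ((relExact_iff (B := B) hφ hgk f).2 hex), ?_⟩
  rw [range_cat, Ideal.span_union, ← hgk, ← RingHom.comap_ker, hfk]
  have h1 : (Ideal.span (Set.range f)).map φ = Ideal.span (Set.range f') := by
    rw [Ideal.map_span, ← Set.range_comp]
    exact congrArg (fun z => Ideal.span (Set.range z)) (funext hf)
  rw [← h1, Ideal.comap_map_of_surjective _ hφ, ← RingHom.ker_eq_comap_bot]

theorem comp {X Y Z : Scheme.{u}} (n m : ℕ) (i : Y ⟶ X) (j : Z ⟶ Y)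
    (hi : RegImm.IsRegularImmersionOfCodim .koszul n i) (hj : RegImm.IsRegularImmersionOfCodim .koszul m j) :
    RegImm.IsRegularImmersionOfCodim .koszul (m + n) (j ≫ i) := by
  haveI := hi.1
  haveI := hj.1
  refine ⟨inferInstance, fun z => ?_⟩
  obtain ⟨⟨U, hU⟩, hzU, hUc, rs, rfl, hrs, hrker⟩ := hi.2 (j z)
  obtain ⟨⟨W, hW⟩, hzW, hWc, ss, rfl, hss, hsker⟩ := hj.2 z
  haveI := hUc; haveI := hWc
  obtain ⟨hsU, hpU⟩ := LCIMor.app_surjective_of_restrict i hU
  obtain ⟨f, g, hfg, hzf⟩ := exists_basicOpen_le_affine_inter hpU hW (j z) ⟨hzU, hzW⟩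
  obtain ⟨t, rfl⟩ := hsU f
  have hpre : i ⁻¹ᵁ X.basicOpen t = Y.basicOpen g := (Scheme.preimage_basicOpen i t).trans hfg
  have hU' : IsAffineOpen (X.basicOpen t) := hU.basicOpen t
  obtain ⟨hc1, g', hg', hk1⟩ := restrict i hU rs.get ((isExact_iff _).2 (by rw [List.ofFn_get]; exact hrs))
    (by rw [hrker, Ideal.ofList]; congr 1; ext x; simp [List.mem_iff_get, eq_comm]) t
  obtain ⟨hc2, f', hf', hk2⟩ := restrict j hW ss.get ((isExact_iff _).2 (by rw [List.ofFn_get]; exact hss))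
    (by rw [hsker, Ideal.ofList]; congr 1; ext x; simp [List.mem_iff_get, eq_comm]) g
  haveI := hc1
  obtain ⟨hs1, -⟩ := LCIMor.app_surjective_of_restrict i hU'
  have key : ∀ V : Y.Opens, V = i ⁻¹ᵁ X.basicOpen t → IsClosedImmersion (j ∣_ V) →
      (∀ f'' : Fin ss.length → Γ(Y, V), IsExact f'' → RingHom.ker (j.app V).hom = Ideal.span (Set.range f'') →
        IsClosedImmersion (j ∣_ (i ⁻¹ᵁ X.basicOpen t)) ∧
          ∃ f''' : Fin ss.length → Γ(Y, i ⁻¹ᵁ X.basicOpen t), IsExact f''' ∧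
            RingHom.ker (j.app (i ⁻¹ᵁ X.basicOpen t)).hom = Ideal.span (Set.range f''')) := by
    rintro V rfl hc f'' h1 h2
    exact ⟨hc, f'', h1, h2⟩
  obtain ⟨hc2', f'', hf'', hk2'⟩ := key _ hpre.symm hc2 f' hf' hk2
  haveI := hc2'
  refine ⟨⟨X.basicOpen t, hU'⟩, ?_, ?_, ?_⟩
  · show j z ∈ i ⁻¹ᵁ X.basicOpen t
    rw [Scheme.preimage_basicOpen]; exact hzf
  · show IsClosedImmersion ((j ≫ i) ∣_ X.basicOpen t)
    rw [morphismRestrict_comp]
    exact MorphismProperty.comp_mem @IsClosedImmersion _ _ hc2' hc1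
  obtain ⟨h, hh, hhk⟩ := compose (i.app (X.basicOpen t)).hom hs1 (j.app (i ⁻¹ᵁ X.basicOpen t)).hom g' hg' hk1 f'' hf'' hk2'
  refine ⟨List.ofFn h, by rw [List.length_ofFn, Nat.add_comm], (isExact_iff h).1 hh, ?_⟩
  rw [Ideal.ofList, setOf_mem_ofFn, ← hhk]
  rfl

end Groth.Agent.KoszulCodim
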